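import Cfsg.Agent.H317.PQ.Defs
import Cfsg.Agent.H684.CoverCount
import Cfsg.Agent.H611.CoverPrincipal
import Cfsg.Agent.S0914
import Cfsg.Agent.S0967
import Cfsg.Agent.Blocks.ExistsModular

/-!
# S4612, A7: the reduction to simple groups (helper451)

* `mem_B0_normal` : the principal block of a normal subgroup consists of the constituents of the restrictions of the
  characters of the principal block;
* `same_normal` : `Same p q G → Same p q N`;
* `B0_eq_triv_iff` : `B0 p G = {1}` iff `p ∤ |G|`;
* `same_quot` : `Same p q G → Same p q (G ⧸ N)` for `N` a `p'`- and `q'`-group;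
* `reduction`, `main` : **the reduction**, and the final form of S4612.
-/

set_option autoImplicit false

open Cfsg

namespace Cfsg.Agent.H451.PQ

open Cfsg.Agent.H317.PQ Cfsg.Agent.Blocks
open Cfsg.Agent.H684.BlockTools (triv triv_mem infl infl_mem infl_injective)

universe u

variable {p q : ℕ} {G : Type u} [Group G]

theorem exists_M (hp : p.Prime) : ∃ M : Ideal AlgInt, IsPModular p M := ExistsModular.exists_isPModular hp

/-- **The principal block of a normal subgroup.** -/
theorem mem_B0_normal [Finite G] (hp : p.Prime) (N : Subgroup G) [N.Normal] [Fintype N] (θ : IrrCharacter N) :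
    θ ∈ B0 p N ↔ ∃ χ ∈ B0 p G, classInner (fun n : N => (χ : G → ℂ) n) (θ : N → ℂ) ≠ 0 := by
  have : Fact p.Prime := ⟨hp⟩
  have := Fintype.ofFinite G
  obtain ⟨M, hM⟩ := exists_M hp
  rw [B0_eq hp hM, B0_eq hp hM]
  constructor
  · exact H684.CoverCount.exists_over hM N θ
  · rintro ⟨χ, hχ, h⟩
    exact H611.CoverPrincipal.mem_principalBlock_of_over p hM N χ θ h hχ

theorem same_normal [Finite G] (hp : p.Prime) (hq : q.Prime) (h : Same p q G) (N : Subgroup G) [N.Normal] :
    Same p q N := by
  have := Fintype.ofFinite N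
  have h' : B0 p G = B0 q G := h
  show B0 p N = B0 q N
  ext θ
  rw [mem_B0_normal hp, mem_B0_normal hq, h']

theorem charDegree_triv : charDegree ((triv G : IrrCharacter G) : G → ℂ) = 1 := by
  apply Basic.charDegree_of_eq
  show (1 : ℂ) = _
  simp

/-- the principal block is trivial exactly for `p'`-groups -/
theorem B0_eq_triv_iff [Finite G] (hp : p.Prime) : B0 p G = {triv G} ↔ ¬ p ∣ Nat.card G := by
  have : Fact p.Prime := ⟨hp⟩
  obtain ⟨M, hM⟩ := exists_M hp
  have h := S0914.result p M hM (triv G)
  rw [charDegree_triv, Nat.div_one] at h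
  rw [B0_eq hp hM, h]
  rfl

theorem mem_B0_infl [Finite G] (hp : p.Prime) (N : Subgroup G) [N.Normal] (hN : ¬ p ∣ Nat.card N)
    (χ : IrrCharacter (G ⧸ N)) :
    infl (QuotientGroup.mk' N) (QuotientGroup.mk'_surjective N) χ ∈ B0 p G ↔ χ ∈ B0 p (G ⧸ N) := by
  have : Fact p.Prime := ⟨hp⟩
  obtain ⟨M, hM⟩ := exists_M hp
  rw [B0_eq hp hM, B0_eq hp hM]
  constructor
  · intro h
    obtain ⟨ψ', h1, h2⟩ := S0967.result p M hM N hN (triv (G ⧸ N)) _ h
    have h3 : χ = ψ' := by
      apply Subtype.ext
      funext x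
      obtain ⟨g, rfl⟩ := QuotientGroup.mk_surjective x
      exact congrFun h1 g
    rw [h3]
    exact h2
  · exact infl_mem hM _ _

theorem same_quot [Finite G] (hp : p.Prime) (hq : q.Prime) (h : Same p q G) (N : Subgroup G) [N.Normal]
    (hpN : ¬ p ∣ Nat.card N) (hqN : ¬ q ∣ Nat.card N) : Same p q (G ⧸ N) := by
  have h' : B0 p G = B0 q G := h
  show B0 p (G ⧸ N) = B0 q (G ⧸ N)
  ext χ
  rw [← mem_B0_infl hp N hpN, ← mem_B0_infl hq N hqN, h']

/-- one of the primes divides the order, the other does not -/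
theorem not_same_of_dvd [Finite G] (hp : p.Prime) (hq : q.Prime) (hpG : p ∣ Nat.card G) (hqG : ¬ q ∣ Nat.card G) :
    ¬ Same p q G := by
  intro h
  have h' : B0 p G = B0 q G := h
  rw [(B0_eq_triv_iff hq).2 hqG] at h'
  exact (B0_eq_triv_iff hp).1 h' hpG

/-- **The reduction to simple groups.** -/
theorem reduction (h : ∀ (S : Type u) [Group S] [Finite S] [IsSimpleGroup S], ¬ IsMulCommutative S → Row S)
    {G : Type u} [Group G] [Finite G] : Row G := by
  suffices key : ∀ n : ℕ, ∀ (G : Type u) [Group G] [Finite G], Nat.card G = n → Row G from key _ G rfl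
  intro n
  induction n using Nat.strong_induction_on with
  | _ n ih =>
  intro G _ _ hn p q hp hq hpq hpG hqG hS
  have hnt : Nontrivial G := by
    by_contra hcon
    rw [not_nontrivial_iff_subsingleton] at hcon
    have h1 : Nat.card G = 1 := Nat.card_eq_one_iff_unique.2 ⟨hcon, ⟨1⟩⟩
    rw [h1] at hpG
    exact hp.one_lt.ne' (Nat.dvd_one.1 hpG)
  by_cases hs : IsSimpleGroup G
  · by_cases hc : IsMulCommutative G
    · let _ : CommGroup G := { (inferInstance : Group G) with mul_comm := fun a b => hc.is_comm.comm a b }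
      have h1 : (Nat.card G).Prime := IsSimpleGroup.prime_card
      exact hpq (((Nat.prime_dvd_prime_iff_eq hp h1).1 hpG).trans ((Nat.prime_dvd_prime_iff_eq hq h1).1 hqG).symm)
    · exact h G hc p q hp hq hpq hpG hqG hS
  · -- a proper normal subgroup
    obtain ⟨N, hNn, hN1, hN2⟩ : ∃ N : Subgroup G, N.Normal ∧ N ≠ ⊥ ∧ N ≠ ⊤ := by
      by_contra hcon
      push Not at hcon
      apply hs
      exact { exists_pair_ne := hnt.exists_pair_ne
              eq_bot_or_eq_top_of_normal := fun N hN => by
                by_contra h2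
                push Not at h2
                exact h2.2 (hcon N hN h2.1) }
    have hlt : Nat.card N < Nat.card G := by
      refine lt_of_le_of_ne (Subgroup.card_le_card_group N) ?_
      intro h1
      exact hN2 (Subgroup.eq_top_of_card_eq N h1)
    have hSN := same_normal hp hq hS N
    by_cases hpN : p ∣ Nat.card N
    · by_cases hqN : q ∣ Nat.card N
      · exact ih (Nat.card N) (hn ▸ hlt) N rfl p q hp hq hpq hpN hqN hSN
      · exact not_same_of_dvd hp hq hpN hqN hSN
    · by_cases hqN : q ∣ Nat.card N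
      · exact not_same_of_dvd hq hp hqN hpN hSN.symm
      · have hcard : Nat.card G = Nat.card (G ⧸ N) * Nat.card N := Subgroup.card_eq_card_quotient_mul_card_subgroup N
        have hlt' : Nat.card (G ⧸ N) < n := by
          rw [← hn, hcard]
          have h1 : 1 < Nat.card N := (Subgroup.one_lt_card_iff_ne_bot N).2 hN1
          exact lt_mul_of_one_lt_right Nat.card_pos h1
        have hp' : p ∣ Nat.card (G ⧸ N) := by
          rw [hcard] at hpG
          exact (hp.dvd_mul.1 hpG).resolve_right hpN
        have hq' : q ∣ Nat.card (G ⧸ N) := by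
          rw [hcard] at hqG
          exact (hq.dvd_mul.1 hqG).resolve_right hqN
        exact ih _ hlt' (G ⧸ N) rfl p q hp hq hpq hp' hq' (same_quot hp hq hS N hpN hqN)

/-- **The final form of S4612.** -/
theorem main (h : ∀ (S : Type u) [Group S] [Finite S] [IsSimpleGroup S], ¬ IsMulCommutative S → Row S)
    {G : Type u} [Group G] [Finite G] (p q : ℕ) [Fact p.Prime] [Fact q.Prime] (hpq : p ≠ q) (hp : p ∣ Nat.card G)
    (hq : q ∣ Nat.card G) (Mp Mq : Ideal Cfsg.AlgInt) (hMp : Cfsg.IsPModular p Mp) (hMq : Cfsg.IsPModular q Mq) :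
    Cfsg.principalBlock Mp G ≠ Cfsg.principalBlock Mq G := by
  rw [← B0_eq Fact.out hMp, ← B0_eq Fact.out hMq]
  exact reduction h p q Fact.out Fact.out hpq hp hq

end Cfsg.Agent.H451.PQ
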